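import Mathlib.CategoryTheory.Abelian.RightDerived
import Mathlib.Algebra.Homology.HomologySequenceLemmas
import Mathlib.Algebra.Homology.ShortComplex.Abelian

/-!
An exact functor to cochain complexes whose positive cohomology vanishes on injectives computes
the right derived functors of its degree zero cohomology, naturally.
-/

set_option autoImplicit false
set_option linter.style.haveILetI false
set_option linter.unusedSectionVars false
set_option backward.isDefEq.respectTransparency false

universe v v' u u'

open CategoryTheory CategoryTheory.Limits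

namespace Groth.Agent.Lib.EffDelta.Basic

variable {C : Type u} [Category.{v} C] [Abelian C]
  {D : Type u'} [Category.{v'} D] [Abelian D]
  (G : C ⥤ CochainComplex D ℕ) [G.PreservesZeroMorphisms]

/-- Degree zero cohomology. -/
noncomputable abbrev Hn (n : ℕ) : C ⥤ D :=
  G ⋙ HomologicalComplex.homologyFunctor D (ComplexShape.up ℕ) n

variable {I J : CochainComplex C ℕ}

/-- The short complex `Z k → I k → Z (k+1)`. -/
noncomputable abbrev seq (I : CochainComplex C ℕ) (k : ℕ) : ShortComplex C :=
  ShortComplex.mk (I.iCycles k) (I.toCycles k (k + 1)) (by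
    rw [← cancel_mono (I.iCycles (k + 1))]; simp)

/-- Its functoriality. -/
noncomputable abbrev seqMap (φ : I ⟶ J) (k : ℕ) : seq I k ⟶ seq J k where
  τ₁ := HomologicalComplex.cyclesMap φ k
  τ₂ := φ.f k
  τ₃ := HomologicalComplex.cyclesMap φ (k + 1)
  comm₁₂ := by simp
  comm₂₃ := by rw [← cancel_mono (J.iCycles (k + 1))]; simp

theorem seq_shortExact {I : CochainComplex C ℕ} (hI : ∀ n, I.ExactAt (n + 1)) (k : ℕ) :
    (seq I k).ShortExact := by
  have hepi : Epi (I.toCycles k (k + 1)) := by
    have h := (I.exactAt_iff_isZero_homology (k + 1)).1 (hI k)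
    exact (ShortComplex.exact_of_g_is_cokernel (ShortComplex.mk _ _ (I.toCycles_comp_homologyπ k (k + 1)))
      (I.homologyIsCokernel k (k + 1) (by simp))).epi_f (h.eq_of_tgt _ _)
  exact
    { exact := ShortComplex.exact_of_f_is_kernel _ (KernelFork.IsLimit.ofι' _ _ fun {W} l hl => by
        have h : l ≫ I.d k (k + 1) = 0 := by rw [← I.toCycles_i k (k + 1), reassoc_of% hl, zero_comp]
        exact ⟨I.liftCycles l (k + 1) (by simp) h, I.liftCycles_i _ _ _ _⟩)
      mono_f := inferInstanceAs (Mono (I.iCycles k))
      epi_g := hepi }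

variable (hG : ∀ S : ShortComplex C, S.ShortExact → (S.map G).ShortExact)

include hG in
theorem map_seq {I : CochainComplex C ℕ} (hI : ∀ n, I.ExactAt (n + 1)) (k : ℕ) :
    ((seq I k).map G).ShortExact := hG _ (seq_shortExact hI k)

/-- Iterated connecting morphism `H⁰(G Zₘ) ⟶ H^q(G Zₖ)`, `k + q = m`. -/
noncomputable def theta (hI : ∀ n, I.ExactAt (n + 1)) :
    ∀ (q k m : ℕ), k + q = m → ((Hn G 0).obj (I.cycles m) ⟶ (Hn G q).obj (I.cycles k))
  | 0, k, m, h => eqToHom (by rw [← h]; rfl)
  | q + 1, k, m, h => theta hI q (k + 1) m (by omega) ≫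
      (map_seq G hG hI k).δ q (q + 1) (by simp)

theorem theta_naturality (hI : ∀ n, I.ExactAt (n + 1)) (hJ : ∀ n, J.ExactAt (n + 1)) (φ : I ⟶ J) :
    ∀ (q k m : ℕ) (h : k + q = m),
      (Hn G 0).map (HomologicalComplex.cyclesMap φ m) ≫ theta G hG hJ q k m h =
        theta G hG hI q k m h ≫ (Hn G q).map (HomologicalComplex.cyclesMap φ k)
  | 0, k, m, h => by
    obtain rfl : k = m := h
    simp only [theta, eqToHom_refl]
    erw [Category.comp_id, Category.id_comp]
  | q + 1, k, m, h => by
    simp only [theta]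
    erw [← Category.assoc, theta_naturality hI hJ φ q (k + 1) m (by omega), Category.assoc,
      Category.assoc]
    congr 1
    exact (HomologicalComplex.HomologySequence.δ_naturality
      (G.mapShortComplex.map (seqMap φ k)) (map_seq G hG hI k) (map_seq G hG hJ k) q (q + 1)
      (by simp)).symm

variable (hvan : ∀ X : C, Injective X → ∀ p, IsZero ((Hn G (p + 1)).obj X))

include hvan in
theorem isIso_δ (hI : ∀ n, I.ExactAt (n + 1)) [∀ n, Injective (I.X n)] (q k : ℕ) :
    IsIso ((map_seq G hG hI k).δ (q + 1) (q + 2) (by simp)) :=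
  (map_seq G hG hI k).isIso_δ _ _ _ (hvan _ inferInstance q) (hvan _ inferInstance (q + 1))

include hvan in
theorem theta_exact (hI : ∀ n, I.ExactAt (n + 1)) [∀ n, Injective (I.X n)] :
    ∀ (q k m : ℕ) (h : k + (q + 1) = m + 1),
      Epi (theta G hG hI (q + 1) k (m + 1) h) ∧
        ∃ w : (Hn G 0).map (I.toCycles m (m + 1)) ≫ theta G hG hI (q + 1) k (m + 1) h = 0,
          (ShortComplex.mk _ _ w).Exact
  | 0, k, m, h => by
    obtain rfl : k = m := by omega
    have e : theta G hG hI (0 + 1) k (k + 1) h = (map_seq G hG hI k).δ 0 1 (by simp) := by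
      simp only [theta]
      exact Category.id_comp _
    rw [e]
    refine ⟨(map_seq G hG hI k).epi_δ 0 1 _ (hvan _ inferInstance 0),
      (map_seq G hG hI k).comp_δ 0 1 _, (map_seq G hG hI k).homology_exact₃ 0 1 _⟩
  | q + 1, k, m, h => by
    obtain ⟨he, w, hw⟩ := theta_exact hI q (k + 1) m (by omega)
    haveI := he
    haveI := isIso_δ G hG hvan hI q k
    have e : theta G hG hI (q + 1 + 1) k (m + 1) h =
        theta G hG hI (q + 1) (k + 1) (m + 1) (by omega) ≫
          (map_seq G hG hI k).δ (q + 1) (q + 2) (by simp) := rfl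
    refine ⟨e ▸ epi_comp _ _, by rw [e, ← Category.assoc, w, zero_comp], ?_⟩
    refine (ShortComplex.exact_iff_of_iso ?_).1 hw
    refine ShortComplex.isoMk (Iso.refl _) (Iso.refl _)
      (asIso ((map_seq G hG hI k).δ (q + 1) (q + 2) _)) (by simp) ?_
    simp [e]

variable [(Hn G 0).Additive]

/-- `H⁰(G Zₚ) ⟶ Hᵖ(H⁰ G I)`. -/
noncomputable def psi (I : CochainComplex C ℕ) (p : ℕ) :
    (Hn G 0).obj (I.cycles p) ⟶ (((Hn G 0).mapHomologicalComplex _).obj I).homology p :=
  (((Hn G 0).mapHomologicalComplex _).obj I).liftCycles ((Hn G 0).map (I.iCycles p)) (p + 1)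
      (by simp) (by
        change (Hn G 0).map (I.iCycles p) ≫ (Hn G 0).map (I.d p (p + 1)) = 0
        rw [← Functor.map_comp, HomologicalComplex.iCycles_d, Functor.map_zero]) ≫
    (((Hn G 0).mapHomologicalComplex _).obj I).homologyπ p

theorem psi_naturality (φ : I ⟶ J) (p : ℕ) :
    (Hn G 0).map (HomologicalComplex.cyclesMap φ p) ≫ psi G J p =
      psi G I p ≫ HomologicalComplex.homologyMap (((Hn G 0).mapHomologicalComplex _).map φ) p := by
  simp only [psi, Category.assoc, HomologicalComplex.homologyπ_naturality]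
  rw [← Category.assoc, ← Category.assoc]
  congr 1
  rw [← cancel_mono (HomologicalComplex.iCycles _ _)]
  simp only [Category.assoc, HomologicalComplex.liftCycles_i, HomologicalComplex.cyclesMap_i,
    HomologicalComplex.liftCycles_i_assoc, Functor.mapHomologicalComplex_map_f]
  erw [← Functor.map_comp, ← Functor.map_comp, HomologicalComplex.cyclesMap_i]

include hG in
theorem mono_H0 (S : ShortComplex C) (hS : S.ShortExact) : Mono ((Hn G 0).map S.f) := by
  haveI := (hG S hS).mono_f
  have h0 : Mono (G.map S.f) := this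
  have : Mono ((G.map S.f).f 0) :=
    inferInstanceAs (Mono ((HomologicalComplex.eval D (ComplexShape.up ℕ) 0).map (G.map S.f)))
  have : Mono (HomologicalComplex.cyclesMap (G.map S.f) 0) := by
    apply mono_of_mono_fac (HomologicalComplex.cyclesMap_i (G.map S.f) 0)
  change Mono (HomologicalComplex.homologyMap (G.map S.f) 0)
  have e : HomologicalComplex.homologyMap (G.map S.f) 0 =
      inv ((G.obj S.X₁).homologyπ 0) ≫ HomologicalComplex.cyclesMap (G.map S.f) 0 ≫
        (G.obj S.X₂).homologyπ 0 := by
    rw [IsIso.eq_inv_comp, HomologicalComplex.homologyπ_naturality]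
  rw [e]
  infer_instance

include hG in
theorem exact_H0 (S : ShortComplex C) (hS : S.ShortExact) :
    ∃ w, (ShortComplex.mk ((Hn G 0).map S.f) ((Hn G 0).map S.g) w).Exact :=
  ⟨_, (hG S hS).homology_exact₂ 0⟩

include hG in
theorem isIso_lift (hI : ∀ n, I.ExactAt (n + 1)) (p : ℕ) :
    IsIso ((((Hn G 0).mapHomologicalComplex _).obj I).liftCycles ((Hn G 0).map (I.iCycles p)) (p + 1)
      (by simp) (by
        change (Hn G 0).map (I.iCycles p) ≫ (Hn G 0).map (I.d p (p + 1)) = 0
        rw [← Functor.map_comp, HomologicalComplex.iCycles_d, Functor.map_zero])) := by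
  let K := ((Hn G 0).mapHomologicalComplex _).obj I
  obtain ⟨w, hw⟩ := exact_H0 G hG _ (seq_shortExact hI p)
  haveI := mono_H0 G hG _ (seq_shortExact hI p)
  haveI hm : Mono ((Hn G 0).map (I.iCycles (p + 1))) := mono_H0 G hG _ (seq_shortExact hI (p + 1))
  haveI : Mono (ShortComplex.mk ((Hn G 0).map (seq I p).f) ((Hn G 0).map (seq I p).g) w).f :=
    mono_H0 G hG _ (seq_shortExact hI p)
  have hd : K.d p (p + 1) = (Hn G 0).map (I.toCycles p (p + 1)) ≫ (Hn G 0).map (I.iCycles (p + 1)) := by
    rw [← Functor.map_comp, HomologicalComplex.toCycles_i]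
    rfl
  have h : K.iCycles p ≫ (Hn G 0).map (I.toCycles p (p + 1)) = 0 := by
    rw [← cancel_mono ((Hn G 0).map (I.iCycles (p + 1))), Category.assoc, ← hd]
    simp
  refine ⟨hw.lift (K.iCycles p) h, ?_, ?_⟩
  · rw [← cancel_mono ((Hn G 0).map (I.iCycles p))]
    erw [Category.assoc, hw.lift_f, HomologicalComplex.liftCycles_i, Category.id_comp]
  · rw [← cancel_mono (K.iCycles p)]
    erw [Category.assoc, HomologicalComplex.liftCycles_i, hw.lift_f, Category.id_comp]

include hvan in
theorem exists_iso (hI : ∀ n, I.ExactAt (n + 1)) [∀ n, Injective (I.X n)] (p : ℕ) :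
    ∃ e : (Hn G p).obj (I.cycles 0) ≅ (((Hn G 0).mapHomologicalComplex _).obj I).homology p,
      theta G hG hI p 0 p (zero_add p) ≫ e.hom = psi G I p := by
  haveI := isIso_lift G hG hI p
  cases p with
  | zero =>
    haveI : IsIso (psi G I 0) := by unfold psi; infer_instance
    refine ⟨asIso (psi G I 0), ?_⟩
    simp [theta]
  | succ p =>
    obtain ⟨he, w, hw⟩ := theta_exact G hG hvan hI p 0 p (zero_add _)
    haveI := he
    let K := ((Hn G 0).mapHomologicalComplex _).obj I
    let L := K.liftCycles ((Hn G 0).map (I.iCycles (p + 1))) (p + 1 + 1) (by simp) (by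
      change (Hn G 0).map (I.iCycles (p + 1)) ≫ (Hn G 0).map (I.d (p + 1) (p + 1 + 1)) = 0
      rw [← Functor.map_comp, HomologicalComplex.iCycles_d, Functor.map_zero])
    haveI : IsIso L := isIso_lift G hG hI (p + 1)
    have hL : (Hn G 0).map (I.toCycles p (p + 1)) ≫ L = K.toCycles p (p + 1) := by
      rw [← cancel_mono (K.iCycles (p + 1))]
      erw [Category.assoc, HomologicalComplex.liftCycles_i, HomologicalComplex.toCycles_i,
        ← Functor.map_comp, HomologicalComplex.toCycles_i]
      rfl
    let hc := hw.gIsCokernel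
    have hwπ : (Hn G 0).map (I.toCycles p (p + 1)) ≫ psi G I (p + 1) = 0 := by
      change (Hn G 0).map (I.toCycles p (p + 1)) ≫ L ≫ K.homologyπ (p + 1) = 0
      erw [← Category.assoc, hL, HomologicalComplex.toCycles_comp_homologyπ]
    haveI : Epi (psi G I (p + 1)) := epi_comp L (K.homologyπ (p + 1))
    have hc' : IsColimit (CokernelCofork.ofπ (psi G I (p + 1)) hwπ) :=
      CokernelCofork.IsColimit.ofπ' _ hwπ (fun {W} l hl => by
        obtain ⟨m, hm⟩ := CokernelCofork.IsColimit.desc' (K.homologyIsCokernel p (p + 1) (by simp))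
          (inv L ≫ l) (by rw [← hL, Category.assoc, IsIso.hom_inv_id_assoc]; exact hl)
        refine ⟨m, ?_⟩
        change (L ≫ K.homologyπ (p + 1)) ≫ m = l
        erw [Category.assoc, hm, IsIso.hom_inv_id_assoc])
    exact ⟨hc.coconePointUniqueUpToIso hc', hc.comp_coconePointUniqueUpToIso_hom hc'
      WalkingParallelPair.one⟩

/-- The iso from the augmentation to the cycles. -/
theorem isIso_aug {P : C} (R : InjectiveResolution P) :
    IsIso (R.cocomplex.liftCycles (R.ι.f 0) 1 (by simp) R.ι_f_zero_comp_complex_d) := by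
  rw [CochainComplex.isIso_liftCycles_iff]
  exact ⟨ShortComplex.exact_of_f_is_kernel _ R.isLimitKernelFork, inferInstance⟩

include hG hvan in
theorem main [HasInjectiveResolutions C] (p : ℕ) :
    Nonempty (Hn G p ≅ (Hn G 0).rightDerived p) := by
  choose e he using fun P : C => exists_iso G hG hvan (I := (injectiveResolution P).cocomplex)
    (injectiveResolution P).cocomplex_exactAt_succ p
  let a := fun P : C => (injectiveResolution P).cocomplex.liftCycles ((injectiveResolution P).ι.f 0) 1
    (by simp) (injectiveResolution P).ι_f_zero_comp_complex_d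
  haveI : ∀ P, IsIso (a P) := fun P => isIso_aug (injectiveResolution P)
  refine ⟨NatIso.ofComponents
    (fun P => (Hn G p).mapIso (asIso (a P)) ≪≫ e P ≪≫
      ((injectiveResolution P).isoRightDerivedObj (Hn G 0) p).symm) fun {P Q} f => ?_⟩
  let φ := InjectiveResolution.desc f (injectiveResolution Q) (injectiveResolution P)
  have hφ := InjectiveResolution.desc_commutes_zero f (injectiveResolution Q) (injectiveResolution P)
  have ha : f ≫ a Q = a P ≫ HomologicalComplex.cyclesMap φ 0 := by
    rw [← cancel_mono (HomologicalComplex.iCycles _ _)]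
    simp only [a, Category.assoc, HomologicalComplex.liftCycles_i, HomologicalComplex.cyclesMap_i,
      HomologicalComplex.liftCycles_i_assoc]
    exact hφ.symm
  have hemid : (Hn G p).map (HomologicalComplex.cyclesMap φ 0) ≫ (e Q).hom =
      (e P).hom ≫ HomologicalComplex.homologyMap (((Hn G 0).mapHomologicalComplex _).map φ) p := by
    have hepi : Epi (theta G hG (injectiveResolution P).cocomplex_exactAt_succ p 0 p (zero_add p)) := by
      cases p with
      | zero => dsimp [theta]; infer_instance
      | succ p => exact (theta_exact G hG hvan _ p 0 p (zero_add _)).1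
    rw [← cancel_epi (theta G hG (injectiveResolution P).cocomplex_exactAt_succ p 0 p (zero_add p)),
      ← Category.assoc, ← theta_naturality G hG _
        (injectiveResolution Q).cocomplex_exactAt_succ φ p 0 p (zero_add p),
      Category.assoc, he Q, psi_naturality, ← he P, Category.assoc]
  simp only [Iso.trans_hom, Functor.mapIso_hom, asIso_hom, Iso.symm_hom, Category.assoc]
  rw [InjectiveResolution.isoRightDerivedObj_inv_naturality f _ _ φ hφ (Hn G 0) p,
    ← Category.assoc ((Hn G p).map f), ← Functor.map_comp, ha, Functor.map_comp, Category.assoc]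
  congr 1
  erw [← Category.assoc, hemid, Category.assoc]
  rfl

end Groth.Agent.Lib.EffDelta.Basic
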